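import Cfsg.Agent.Lib.LyG2_97.Mat
import Cfsg.Agent.Lib.LyH.Words

/-!
Four matrices in `G₂(5)` with the relations 1-44 of the Lyons presentation, generating it.
-/

set_option autoImplicit false

namespace Cfsg.Agent.Lib.LyG2_97

open Cfsg.Lie Cfsg.Agent.Lib.CosetTable Cfsg.Agent.Lib

/-- `a` -/
def ga : GL Idx K := unit (ms.getD 0 0) (ms.getD 1 0) (by decide +kernel) (by decide +kernel)
/-- `b` -/
def gb : GL Idx K := unit (ms.getD 2 0) (ms.getD 3 0) (by decide +kernel) (by decide +kernel)
/-- `c` -/
def gc : GL Idx K := unit (ms.getD 4 0) (ms.getD 5 0) (by decide +kernel) (by decide +kernel)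
/-- `d` -/
def gd : GL Idx K := unit (ms.getD 6 0) (ms.getD 7 0) (by decide +kernel) (by decide +kernel)

/-- the eight base letters -/
def base8 {G : Type*} [Group G] (a b c d : G) : List G := [a, a⁻¹, b, b⁻¹, c, c⁻¹, d, d⁻¹]

theorem rep_base : IsRep (base8 ga gb gc gd) ms := by
  intro l hl
  simp only [base8, List.length_cons, List.length_nil] at hl
  interval_cases l <;> rfl

theorem ok_all : extOK ms 8 defs defCs = true := by decide +kernel

theorem ok_ten : extOK ms 8 (defs.take 10) (defCs.take 10) = true := by decide +kernel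

theorem ext_ten {G : Type*} [Group G] (a b c d : G) : ∀ l < 18,
    (ext (base8 a b c d) (defs.take 10)).getD l 1 = LyH.letters a b c d l := by
  intro l hl
  interval_cases l <;>
    simp [defs, ext, base8, LyH.letters, LyH.C2, LyH.C3, LyH.C4, LyH.C5, LyH.CE, pow_succ, mul_assoc]

theorem letters_val : ∀ l < 18,
    ((LyH.letters ga gb gc gd l : GL Idx K) : MK) = toMat (ms.getD l 0) := by
  obtain ⟨h1, h2⟩ := ext_spec rep_base (css := defCs.take 10) ok_ten
  intro l hl
  rw [← ext_ten ga gb gc gd l hl]
  exact h1 l (by rw [h2]; simp [base8, defs]; omega)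

/-- every relator word has at most the eighteen letters and multiplies to one -/
noncomputable def relOK : List (List ℕ) → List (List ℕ) → Bool
  | [], [] => true
  | w :: ws, cs :: css => w.all (fun l => Nat.blt l 18) && chainOK ms oneCode w cs oneCode && relOK ws css
  | _, _ => false

theorem relOK_spec : ∀ {ws css : List (List ℕ)}, relOK ws css = true →
    ∀ w ∈ ws, LyH.wev (LyH.letters ga gb gc gd) w = 1
  | [], [], _, w, hw => absurd hw List.not_mem_nil
  | v :: ws, cs :: css, h, w, hw => by
    simp only [relOK, Bool.and_eq_true, List.all_eq_true] at h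
    obtain ⟨⟨hv, hc⟩, hr⟩ := h
    rcases List.mem_cons.mp hw with rfl | hw
    · apply Units.ext
      have hlt : ∀ l ∈ w, l < 18 := fun l hl => by simpa using hv l hl
      have := chain_one hc (LyH.lab (LyH.letters ga gb gc gd)) fun l hl => by
        rw [LyH.lab, if_pos (hlt l hl)]
        exact letters_val l (hlt l hl)
      rw [toMat_one] at this
      exact this
    · exact relOK_spec hr w hw
  | [], _ :: _, h, _, _ => by simp [relOK] at h
  | _ :: _, [], h, _, _ => by simp [relOK] at h

theorem ok_rel : relOK LyH.relL relCs = true := by decide +kernel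

theorem rel_word (n : ℕ) (hn : n < LyH.relL.length) :
    LyH.wev (LyH.letters ga gb gc gd) LyH.relL[n] = 1 :=
  relOK_spec ok_rel _ (List.getElem_mem hn)

theorem lyRel_of_words {G : Type*} [Group G] (a b c d : G)
    (h : ∀ (n : ℕ) (hn : n < LyH.relL.length), LyH.wev (LyH.letters a b c d) LyH.relL[n] = 1) :
    LyH.LyRel a b c d := by
  constructor
  case r1 => simpa [LyH.relL, LyH.wev, LyH.lab, LyH.letters, pow_succ, mul_assoc] using h 1 (by decide)
  case r2 => simpa [LyH.relL, LyH.wev, LyH.lab, LyH.letters, pow_succ, mul_assoc] using h 2 (by decide)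
  case r3 => simpa [LyH.relL, LyH.wev, LyH.lab, LyH.letters, pow_succ, mul_assoc] using h 3 (by decide)
  case r4 => simpa [LyH.relL, LyH.wev, LyH.lab, LyH.letters, pow_succ, mul_assoc] using h 4 (by decide)
  case r5 => simpa [LyH.relL, LyH.wev, LyH.lab, LyH.letters, pow_succ, mul_assoc] using h 5 (by decide)
  case r11 => simpa [LyH.relL, LyH.wev, LyH.lab, LyH.letters, pow_succ, mul_assoc] using h 10 (by decide)
  case r12 => simpa [LyH.relL, LyH.wev, LyH.lab, LyH.letters, pow_succ, mul_assoc] using h 11 (by decide)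
  case r13 => simpa [LyH.relL, LyH.wev, LyH.lab, LyH.letters, pow_succ, mul_assoc] using h 12 (by decide)
  case r14 => simpa [LyH.relL, LyH.wev, LyH.lab, LyH.letters, pow_succ, mul_assoc] using h 13 (by decide)
  case r15 => simpa [LyH.relL, LyH.wev, LyH.lab, LyH.letters, pow_succ, mul_assoc] using h 14 (by decide)
  case r16 => simpa [LyH.relL, LyH.wev, LyH.lab, LyH.letters, pow_succ, mul_assoc] using h 15 (by decide)
  case r17 => simpa [LyH.relL, LyH.wev, LyH.lab, LyH.letters, pow_succ, mul_assoc] using h 16 (by decide)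
  case r18 => simpa [LyH.relL, LyH.wev, LyH.lab, LyH.letters, pow_succ, mul_assoc] using h 17 (by decide)
  case r19 => simpa [LyH.relL, LyH.wev, LyH.lab, LyH.letters, pow_succ, mul_assoc] using h 18 (by decide)
  case r20 => simpa [LyH.relL, LyH.wev, LyH.lab, LyH.letters, pow_succ, mul_assoc] using h 19 (by decide)
  case r21 => simpa [LyH.relL, LyH.wev, LyH.lab, LyH.letters, pow_succ, mul_assoc] using h 20 (by decide)
  case r22 => simpa [LyH.relL, LyH.wev, LyH.lab, LyH.letters, pow_succ, mul_assoc] using h 21 (by decide)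
  case r23 => simpa [LyH.relL, LyH.wev, LyH.lab, LyH.letters, pow_succ, mul_assoc] using h 22 (by decide)
  case r24 => simpa [LyH.relL, LyH.wev, LyH.lab, LyH.letters, pow_succ, mul_assoc] using h 23 (by decide)
  case r25 => simpa [LyH.relL, LyH.wev, LyH.lab, LyH.letters, pow_succ, mul_assoc] using h 24 (by decide)
  case r26 => simpa [LyH.relL, LyH.wev, LyH.lab, LyH.letters, pow_succ, mul_assoc] using h 25 (by decide)
  case r27 => simpa [LyH.relL, LyH.wev, LyH.lab, LyH.letters, pow_succ, mul_assoc] using h 26 (by decide)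
  case r28 => simpa [LyH.relL, LyH.wev, LyH.lab, LyH.letters, pow_succ, mul_assoc] using h 27 (by decide)
  case r30 => simpa [LyH.relL, LyH.wev, LyH.lab, LyH.letters, pow_succ, mul_assoc] using h 29 (by decide)
  case r31 => simpa [LyH.relL, LyH.wev, LyH.lab, LyH.letters, pow_succ, mul_assoc] using h 30 (by decide)
  case r32 => simpa [LyH.relL, LyH.wev, LyH.lab, LyH.letters, pow_succ, mul_assoc] using h 31 (by decide)
  case r33 => simpa [LyH.relL, LyH.wev, LyH.lab, LyH.letters, pow_succ, mul_assoc] using h 32 (by decide)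
  case r34 => simpa [LyH.relL, LyH.wev, LyH.lab, LyH.letters, pow_succ, mul_assoc] using h 33 (by decide)
  case r35 => simpa [LyH.relL, LyH.wev, LyH.lab, LyH.letters, pow_succ, mul_assoc] using h 34 (by decide)
  case r36 => simpa [LyH.relL, LyH.wev, LyH.lab, LyH.letters, pow_succ, mul_assoc] using h 35 (by decide)
  case r37 => simpa [LyH.relL, LyH.wev, LyH.lab, LyH.letters, pow_succ, mul_assoc] using h 36 (by decide)
  case r38 => simpa [LyH.relL, LyH.wev, LyH.lab, LyH.letters, pow_succ, mul_assoc] using h 37 (by decide)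
  case r39 => simpa [LyH.relL, LyH.wev, LyH.lab, LyH.letters, pow_succ, mul_assoc] using h 38 (by decide)
  case r40 => simpa [LyH.relL, LyH.wev, LyH.lab, LyH.letters, pow_succ, mul_assoc] using h 39 (by decide)
  case r41 => simpa [LyH.relL, LyH.wev, LyH.lab, LyH.letters, pow_succ, mul_assoc] using h 40 (by decide)
  case r42 => simpa [LyH.relL, LyH.wev, LyH.lab, LyH.letters, pow_succ, mul_assoc] using h 41 (by decide)
  case r43 => simpa [LyH.relL, LyH.wev, LyH.lab, LyH.letters, pow_succ, mul_assoc] using h 42 (by decide)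
  case r44 => simpa [LyH.relL, LyH.wev, LyH.lab, LyH.letters, pow_succ, mul_assoc] using h 43 (by decide)

theorem lyRel_model : LyH.LyRel ga gb gc gd := lyRel_of_words ga gb gc gd rel_word

theorem d_mem_of {G : Type*} [Group G] {a b c d : G} {S : Subgroup G} (h : LyH.LyRel a b c d)
    (ha : a ∈ S) (hb : b ∈ S) (hc : c ∈ S) (he : LyH.CE a b c d ∈ S) : d ∈ S := by
  have h2 : LyH.C2 a c ∈ S := mul_mem (mul_mem (inv_mem ha) hc) ha
  have h4 : LyH.C4 b c ∈ S := mul_mem (mul_mem (inv_mem (inv_mem hb)) hc) (inv_mem hb)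
  have h5 : LyH.C5 a c ∈ S := mul_mem (mul_mem (mul_mem (inv_mem hc) (inv_mem h2)) hc) h2
  rw [mul_inv_eq_one.mp h.r39]
  repeat (first | exact ha | exact hb | exact hc | exact he | exact h2 | exact h4 | exact h5 |
    apply mul_mem | apply inv_mem | apply pow_mem)

/-- the subgroup generated by the four matrices -/
def gens : Subgroup (GL Idx K) := Subgroup.closure {ga, gb, gc, gd}

/-- all letters -/
def allLetters : List (GL Idx K) := ext (base8 ga gb gc gd) defs

theorem allLetters_spec : IsRep allLetters ms ∧ allLetters.length = 34 := by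
  obtain ⟨h1, h2⟩ := ext_spec rep_base ok_all
  exact ⟨h1, by rw [allLetters, h2]; rfl⟩

theorem allLetters_mem : ∀ x ∈ allLetters, x ∈ gens := by
  refine ext_mem defs fun x hx => ?_
  simp only [base8, List.mem_cons, List.not_mem_nil, or_false] at hx
  have ha : ga ∈ gens := Subgroup.subset_closure (.inl rfl)
  have hb : gb ∈ gens := Subgroup.subset_closure (.inr (.inl rfl))
  have hc : gc ∈ gens := Subgroup.subset_closure (.inr (.inr (.inl rfl)))
  have hd : gd ∈ gens := Subgroup.subset_closure (.inr (.inr (.inr rfl)))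
  rcases hx with rfl | rfl | rfl | rfl | rfl | rfl | rfl | rfl
  exacts [ha, inv_mem ha, hb, inv_mem hb, hc, inv_mem hc, hd, inv_mem hd]

/-- the code of `x_r(t)` -/
def xCode (r t : ℕ) : ℕ := (oneCode :: rootPow.getD r []).getD t 0

/-- an entry of `x_r(t)` agrees with the code -/
def XEq (r : Fin 12) (t : Fin 5) (row col : Idx) : Prop :=
  ((ent (xCode r t) (pos row) (pos col) : ℕ) : K) = chevG2.xMat K r ((t.val : ℕ) : K) row col

instance (r : Fin 12) (t : Fin 5) (row col : Idx) : Decidable (XEq r t row col) :=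
  inferInstanceAs (Decidable (_ = _))

theorem xCode_ok : ∀ (r : Fin 12) (t : Fin 5) (row col : Idx), XEq r t row col := by decide +kernel

theorem toMat_xCode (r : Fin 12) (t : K) : toMat (xCode r t.val) = chevG2.xMat K r t := by
  ext row col
  have h : ((ent (xCode r t.val) (pos row) (pos col) : ℕ) : K) =
      chevG2.xMat K r ((t.val : ℕ) : K) row col := xCode_ok r ⟨t.val, ZMod.val_lt t⟩ row col
  rw [ZMod.natCast_rightInverse t] at h
  rw [toMat, Matrix.of_apply, h]

theorem root_pow_ok : ∀ (r : Fin 12) (t : Fin 5),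
    chainOK ms (xCode r t) (List.replicate t (rootAt.getD r 0)) ((rootPow.getD r []).take t) oneCode = true ∧
      rootAt.getD r 0 < 34 := by decide +kernel

theorem xMat_mem (r : Fin 12) (t : K) :
    ∃ g ∈ gens, (g : MK) = chevG2.xMat K r t := by
  obtain ⟨hc, hl⟩ := root_pow_ok r ⟨t.val, ZMod.val_lt t⟩
  refine ⟨_, ?_, (chain_one hc (fun l => allLetters.getD l 1) ?_).trans (toMat_xCode r t)⟩
  · refine Subgroup.list_prod_mem _ fun z hz => ?_
    obtain ⟨l, hl', rfl⟩ := List.mem_map.mp hz
    rw [List.eq_of_mem_replicate hl', List.getD_eq_getElem _ _ (allLetters_spec.2 ▸ hl)]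
    exact allLetters_mem _ (List.getElem_mem _)
  · intro l hl'
    rw [List.eq_of_mem_replicate hl']
    exact allLetters_spec.1 _ (allLetters_spec.2 ▸ hl)

theorem group_le_gens : chevG2.group K ≤ gens := by
  refine (Subgroup.closure_le _).mpr ?_
  rintro g ⟨r, t, hg⟩
  obtain ⟨h, hh, he⟩ := xMat_mem r t
  rwa [show g = h from Units.ext (hg.trans he.symm)]

theorem root_unit (r : Fin 12) : ∃ g ∈ chevG2.group K, (g : MK) = toMat (rootMs.getD r 0) := by
  obtain ⟨g, -, he⟩ := xMat_mem r 1
  refine ⟨g, Subgroup.subset_closure ⟨r, 1, he⟩, ?_⟩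
  have h : ∀ r : Fin 12, rootMs.getD r 0 = xCode r 1 := by decide +kernel
  rw [he, h r]
  exact (toMat_xCode r 1).symm

/-- `a b c e` are products of root elements -/
noncomputable def genOK : List (ℕ × List ℕ) → List (List ℕ) → Bool
  | [], [] => true
  | (l, w) :: ws, cs :: css =>
      w.all (fun r => Nat.blt r 12) && chainOK rootMs (ms.getD l 0) w cs oneCode && genOK ws css
  | _, _ => false

theorem genOK_spec : ∀ {ws css : List _}, genOK ws css = true → ∀ p ∈ ws,
    ∃ g ∈ chevG2.group K, (g : MK) = toMat (ms.getD (p : ℕ × List ℕ).1 0)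
  | [], [], _, p, hp => absurd hp List.not_mem_nil
  | (l, w) :: ws, cs :: css, h, p, hp => by
    simp only [genOK, Bool.and_eq_true, List.all_eq_true] at h
    obtain ⟨⟨hv, hc⟩, hr⟩ := h
    rcases List.mem_cons.mp hp with rfl | hp
    · choose f hf hf' using root_unit
      refine ⟨_, ?_, chain_one hc (fun r => if hr : r < 12 then f ⟨r, hr⟩ else 1) ?_⟩
      · refine Subgroup.list_prod_mem _ fun z hz => ?_
        obtain ⟨r, -, rfl⟩ := List.mem_map.mp hz
        split
        · exact hf _
        · exact one_mem _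
      · intro r hr'
        have hlt : r < 12 := by simpa using hv r hr'
        simp only [dif_pos hlt]
        exact hf' ⟨r, hlt⟩
    · exact genOK_spec hr p hp
  | [], _ :: _, h, _, _ => by simp [genOK] at h
  | _ :: _, [], h, _, _ => by simp [genOK] at h

theorem ok_gen : genOK genWords genCs = true := by decide +kernel

theorem letter_mem (l : ℕ) (hl : l ∈ [0, 2, 4, 16]) :
    LyH.letters ga gb gc gd l ∈ chevG2.group K := by
  have hm : ∀ l ∈ [0, 2, 4, 16], ∃ p ∈ genWords, p.1 = l := by decide +kernel
  obtain ⟨⟨l', w⟩, hw, h'⟩ := hm l hl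
  have h2 : l = l' := h'.symm
  rw [h2] at hl ⊢
  obtain ⟨g, hg, he⟩ := genOK_spec ok_gen _ hw
  have hlt : l' < 18 := by
    simp only [List.mem_cons, List.not_mem_nil, or_false] at hl
    omega
  rwa [show LyH.letters ga gb gc gd l' = g from Units.ext ((letters_val l' hlt).trans he.symm)]

theorem gens_le_group : gens ≤ chevG2.group K := by
  have ha : ga ∈ chevG2.group K := letter_mem 0 (by simp)
  have hb : gb ∈ chevG2.group K := letter_mem 2 (by simp)
  have hc : gc ∈ chevG2.group K := letter_mem 4 (by simp)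
  have he : LyH.CE ga gb gc gd ∈ chevG2.group K := letter_mem 16 (by simp)
  refine (Subgroup.closure_le _).mpr ?_
  rintro x (rfl | rfl | rfl | rfl)
  · exact ha
  · exact hb
  · exact hc
  · exact d_mem_of lyRel_model ha hb hc he

theorem gens_eq : gens = chevG2.group K := le_antisymm gens_le_group group_le_gens

end Cfsg.Agent.Lib.LyG2_97
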