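import Cfsg.Agent.Lib.LyG2_97.Model
import Cfsg.Agent.Lib.LyBridge55.Bridge
import Cfsg.Agent.Lib.LyMat14.Facts
import Cfsg.Agent.Lib.Chev.Perfect
import Cfsg.Agent.S1059

/-!
`⟨a, b, c, d⟩` of the presented Lyons group is `G₂(5)`.
-/

set_option autoImplicit false

namespace Cfsg.Agent.Lib.LyG2_97

open Cfsg Cfsg.Lie Cfsg.Spor Cfsg.Agent.Lib

theorem card_chev : Nat.card ↥(chevG2.group K) = 5859000000 := by
  rw [S1059.result (ZMod.card 5)]; norm_num

theorem simple_chev : IsSimpleGroup ↥(chevG2.group K) :=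
  (Chev.simple_G2 ⟨2, by decide, by decide⟩).1

/-- the group on 19530 points is `G₂(5)` -/
theorem Hbar_iso : Nonempty (LyDC.Hbar ≃* ↥(chevG2.group K)) := by
  obtain ⟨ψ, -, -, -, -, hr⟩ := LyDC.exists_hom lyRel_model
  have hr' : ψ.range = chevG2.group K := hr.trans gens_eq
  have hs : Function.Surjective ((MulEquiv.subgroupCongr hr').toMonoidHom.comp ψ.rangeRestrict) :=
    (MulEquiv.subgroupCongr hr').surjective.comp ψ.rangeRestrict_surjective
  haveI : Finite LyDC.Hbar := Nat.finite_of_card_ne_zero (by rw [LyDC.card_Hbar]; norm_num)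
  exact ⟨MulEquiv.ofBijective _ ((Nat.bijective_iff_surjective_and_card _).mpr
    ⟨hs, by rw [LyDC.card_Hbar, card_chev]⟩)⟩

theorem simple_Hbar : IsSimpleGroup LyDC.Hbar := by
  obtain ⟨e⟩ := Hbar_iso
  haveI := simple_chev
  haveI : Nontrivial LyDC.Hbar := e.toEquiv.nontrivial
  exact IsSimpleGroup.isSimpleGroup_of_surjective e.symm.toMonoidHom e.symm.surjective

theorem gg_a_ne_one : LyMult97.gg .a ≠ (1 : Ly) := fun h =>
  LyMat14.rho_a_ne_one (by rw [show LyMat14.lyOf .a = LyMult97.gg .a from rfl, h, map_one])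

theorem lyHom_inj : Function.Injective LyBridge55.lyHom := by
  haveI := simple_Hbar
  rw [← MonoidHom.ker_eq_bot_iff]
  rcases LyBridge55.lyHom.normal_ker.eq_bot_or_eq_top with h | h
  · exact h
  · refine absurd ?_ gg_a_ne_one
    have hm : LyDC.rep.f 0 ∈ LyBridge55.lyHom.ker := h ▸ Subgroup.mem_top _
    rw [MonoidHom.mem_ker] at hm
    exact (LyBridge55.exists_hom LyBridge55.lyRel_gg).choose_spec.1 ▸ hm

theorem hSub_iso : Nonempty (LyMult97.hSub ≃* ↥(chevG2.group K)) := by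
  obtain ⟨e⟩ := Hbar_iso
  exact ⟨((MulEquiv.subgroupCongr LyBridge55.lyHom_range.symm).trans
    (MonoidHom.ofInjective lyHom_inj).symm).trans e⟩

end Cfsg.Agent.Lib.LyG2_97
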