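import Mathlib
import Cfsg.Prelude.Def_ChevG2
import Cfsg.Agent.Lib.CosetTable.Sound
import Cfsg.Agent.Lib.LyG2_97.Data

/-!
Checked 14 by 14 matrices over the field with five elements, three bits per entry, and
straight line programs in them.
-/

set_option autoImplicit false

namespace Cfsg.Agent.Lib.LyG2_97

open Cfsg.Lie Cfsg.Agent.Lib.CosetTable

instance fact5 : Fact (Nat.Prime 5) := ⟨by norm_num⟩

/-- the field -/
abbrev K : Type := ZMod 5

/-- coordinates -/
abbrev Idx : Type := chevG2.Idx

/-- matrices -/
abbrev MK : Type := Matrix Idx Idx K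

/-- position of a coordinate -/
def pos : Idx → ℕ
  | .inl i => i
  | .inr r => 2 + r

/-- entry of a coded matrix -/
def ent (a i j : ℕ) : ℕ := Nat.land (Nat.shiftRight a (3 * (14 * i + j))) 7

/-- row times column, over the first `n` positions -/
def dot (a b i j : ℕ) : ℕ → ℕ
  | 0 => 0
  | n + 1 => dot a b i j n + ent a i n * ent b n j

/-- `c` codes the product of `a` and `b` -/
noncomputable def mulOK (a b c : ℕ) : Bool :=
  force a fun a => force b fun b => force c fun c =>
    rangeAll (fun i => rangeAll (fun j => Nat.beq (dot a b i j 14 % 5) (ent c i j)) 14 0) 14 0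

/-- running products of the word `w` from `cur` reach `tgt` -/
noncomputable def chainOK (m : List ℕ) (tgt : ℕ) : List ℕ → List ℕ → ℕ → Bool
  | [], [], cur => Nat.beq cur tgt
  | g :: w, c :: cs, cur => mulOK cur (m.getD g 0) c && chainOK m tgt w cs c
  | _, _, _ => false

/-- the definitions `ds` of the letters `n, n+1, …` are respected -/
noncomputable def extOK (m : List ℕ) : ℕ → List (List ℕ) → List (List ℕ) → Bool
  | _, [], [] => true
  | n, w :: ds, cs :: css =>
      w.all (fun l => Nat.blt l n) && chainOK m (m.getD n 0) w cs oneCode && extOK m (n + 1) ds css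
  | _, _, _ => false

/-- the coded matrix -/
def toMat (a : ℕ) : MK := Matrix.of fun i j => ((ent a (pos i) (pos j) : ℕ) : K)

theorem pos_lt (i : Idx) : pos i < 14 := by
  rcases i with i | i
  · have : i.val < 2 := i.isLt
    simp only [pos]; omega
  · have : i.val < 12 := i.isLt
    simp only [pos]; omega

theorem cast_dot (a b i j : ℕ) : ∀ n, ((dot a b i j n : ℕ) : K) =
    ∑ m ∈ Finset.range n, ((ent a i m : ℕ) : K) * ((ent b m j : ℕ) : K)
  | 0 => by simp [dot]
  | n + 1 => by rw [dot, Nat.cast_add, Nat.cast_mul, cast_dot a b i j n, Finset.sum_range_succ]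

theorem sum_idx (f : ℕ → K) : ∑ i : Idx, f (pos i) = ∑ m ∈ Finset.range 14, f m := by
  rw [Fintype.sum_sum_type]
  show (∑ i : Fin 2, f i) + ∑ r : Fin 12, f (2 + r) = _
  rw [Finset.sum_range_add (n := 2) (m := 12), Fin.sum_univ_eq_sum_range (fun m => f m),
    Fin.sum_univ_eq_sum_range (fun m => f (2 + m))]

theorem toMat_mul {a b c : ℕ} (h : mulOK a b c = true) : toMat a * toMat b = toMat c := by
  simp only [mulOK, force_eq] at h
  ext i j
  have hi := rangeAll_spec h (pos i) (Nat.zero_le _) (by have := pos_lt i; omega)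
  have hj := beq_iff.mp (rangeAll_spec hi (pos j) (Nat.zero_le _) (by have := pos_lt j; omega))
  rw [Matrix.mul_apply]
  simp only [toMat, Matrix.of_apply]
  rw [sum_idx (fun m => ((ent a (pos i) m : ℕ) : K) * ((ent b m (pos j) : ℕ) : K)), ← cast_dot,
    ← hj, ZMod.natCast_mod]

theorem toMat_one : toMat oneCode = 1 := by
  have h : ∀ i j : Idx, ent oneCode (pos i) (pos j) = if i = j then 1 else 0 := by decide +kernel
  ext i j
  simp only [toMat, Matrix.of_apply, h, Matrix.one_apply]
  split_ifs <;> simp

/-- a checked unit -/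
def unit (a a' : ℕ) (h : mulOK a a' oneCode = true) (h' : mulOK a' a oneCode = true) : GL Idx K where
  val := toMat a
  inv := toMat a'
  val_inv := (toMat_mul h).trans toMat_one
  inv_val := (toMat_mul h').trans toMat_one

theorem chainOK_spec {m : List ℕ} {tgt : ℕ} : ∀ {w cs : List ℕ} {cur : ℕ},
    chainOK m tgt w cs cur = true → ∀ p : ℕ → GL Idx K,
      (∀ l ∈ w, ((p l : GL Idx K) : MK) = toMat (m.getD l 0)) → ∀ x : GL Idx K,
        (x : MK) = toMat cur → ((x * (w.map p).prod : GL Idx K) : MK) = toMat tgt
  | [], [], cur, h, p, _, x, hx => by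
    simp only [chainOK, beq_iff] at h
    simp [hx, h]
  | g :: w, c :: cs, cur, h, p, hp, x, hx => by
    simp only [chainOK, Bool.and_eq_true] at h
    have hc : ((x * p g : GL Idx K) : MK) = toMat c := by
      rw [Units.val_mul, hp g (by simp), hx, toMat_mul h.1]
    have := chainOK_spec h.2 p (fun a ha => hp a (List.mem_cons_of_mem _ ha)) (x * p g) hc
    simpa [mul_assoc] using this
  | [], _ :: _, _, h, _, _, _, _ => by simp [chainOK] at h
  | _ :: _, [], _, h, _, _, _, _ => by simp [chainOK] at h

theorem chain_one {m : List ℕ} {tgt : ℕ} {w cs : List ℕ}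
    (h : chainOK m tgt w cs oneCode = true) (p : ℕ → GL Idx K)
    (hp : ∀ l ∈ w, ((p l : GL Idx K) : MK) = toMat (m.getD l 0)) :
    (((w.map p).prod : GL Idx K) : MK) = toMat tgt := by
  have := chainOK_spec h p hp 1 (by rw [Units.val_one, toMat_one])
  simpa using this

/-- append a letter for each definition -/
def ext {G : Type*} [Monoid G] (f : List G) : List (List ℕ) → List G
  | [] => f
  | w :: ds => ext (f ++ [(w.map fun l => f.getD l 1).prod]) ds

/-- the letters have the coded values -/
def IsRep (f : List (GL Idx K)) (m : List ℕ) : Prop :=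
  ∀ l < f.length, ((f.getD l 1 : GL Idx K) : MK) = toMat (m.getD l 0)

theorem ext_spec {m : List ℕ} : ∀ {ds css : List (List ℕ)} {f : List (GL Idx K)},
    IsRep f m → extOK m f.length ds css = true →
      IsRep (ext f ds) m ∧ (ext f ds).length = f.length + ds.length
  | [], [], f, hf, _ => ⟨hf, by simp [ext]⟩
  | w :: ds, cs :: css, f, hf, h => by
    simp only [extOK, Bool.and_eq_true, List.all_eq_true] at h
    obtain ⟨⟨hw, hc⟩, hr⟩ := h
    have hv := chain_one hc (fun l => f.getD l 1) fun l hl =>
      hf l (by simpa using hw l hl)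
    have hf' : IsRep (f ++ [(w.map fun l => f.getD l 1).prod]) m := by
      intro l hl
      rw [List.length_append, List.length_singleton] at hl
      rcases Nat.lt_succ_iff_lt_or_eq.mp hl with hl | rfl
      · rw [List.getD_append _ _ _ _ hl]
        exact hf l hl
      · rw [List.getD_append_right _ _ _ _ le_rfl, Nat.sub_self, List.getD_cons_zero]
        exact hv
    obtain ⟨h1, h2⟩ := ext_spec (ds := ds) (css := css) hf' (by simpa using hr)
    exact ⟨h1, by rw [ext, h2]; simp; omega⟩
  | [], _ :: _, _, _, h => by simp [extOK] at h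
  | _ :: _, [], _, _, h => by simp [extOK] at h

theorem ext_mem {G : Type*} [Group G] {S : Subgroup G} : ∀ (ds : List (List ℕ)) {f : List G},
    (∀ x ∈ f, x ∈ S) → ∀ x ∈ ext f ds, x ∈ S
  | [], _, hf, x, hx => hf x hx
  | w :: ds, f, hf, x, hx => by
    refine ext_mem ds (fun y hy => ?_) x hx
    rcases List.mem_append.mp hy with hy | hy
    · exact hf y hy
    · rw [List.mem_singleton] at hy
      subst hy
      refine Subgroup.list_prod_mem _ fun z hz => ?_
      obtain ⟨l, -, rfl⟩ := List.mem_map.mp hz
      by_cases hl : l < f.length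
      · rw [List.getD_eq_getElem _ _ hl]
        exact hf _ (List.getElem_mem hl)
      · rw [List.getD_eq_default _ _ (by omega)]
        exact one_mem S

end Cfsg.Agent.Lib.LyG2_97
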